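import Mathlib.AlgebraicGeometry.IdealSheaf.Functorial
import Mathlib.AlgebraicGeometry.Morphisms.ClosedImmersion
import Mathlib.AlgebraicGeometry.Noetherian

/-! # Powers of ideal sheaves and supports -/

universe u

open AlgebraicGeometry CategoryTheory

namespace Groth.Agent.IdSheafPow

theorem le_radical_of_support_le {X : Scheme.{u}} (I J : X.IdealSheafData)
    (h : (J.support : Set X) ⊆ I.support) (U : X.affineOpens) : I.ideal U ≤ (J.ideal U).radical := by
  intro a ha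
  rw [Ideal.radical_eq_sInf, Ideal.mem_sInf]
  rintro q ⟨hJq, hq⟩
  let x : PrimeSpectrum Γ(X, U) := ⟨q, hq⟩
  have hx : U.2.fromSpec x ∈ X.zeroLocus (U := U.1) (J.ideal U : Set Γ(X, U)) ∩ U.1 := by
    rw [← U.2.fromSpec_image_zeroLocus]
    exact ⟨x, hJq, rfl⟩
  rw [← J.coe_support_inter U] at hx
  have hI : U.2.fromSpec x ∈ (I.support : Set X) ∩ U.1 := ⟨h hx.1, hx.2⟩
  rw [I.coe_support_inter U] at hI
  have h2 : x ∈ PrimeSpectrum.zeroLocus (I.ideal U : Set Γ(X, U)) := by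
    rw [← U.2.fromSpec_preimage_zeroLocus]
    exact hI.1
  exact h2 ha

theorem exists_pow_le {X : Scheme.{u}} [CompactSpace X] (I J : X.IdealSheafData)
    (hI : ∀ V : X.affineOpens, (I.ideal V).FG) (h : (J.support : Set X) ⊆ I.support) :
    ∃ n : ℕ, ∀ m, n ≤ m → I ^ m ≤ J := by
  classical
  obtain ⟨t, ht⟩ := isCompact_univ.elim_finite_subcover (fun V : X.affineOpens => (V.1 : Set X)) (fun V => V.1.2) (fun x _ => by
    have hx : x ∈ ⨆ i : X.affineOpens, (i : X.Opens) := by rw [iSup_affineOpens_eq_top]; trivial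
    simpa using hx)
  have hk : ∀ V : X.affineOpens, ∃ n : ℕ, I.ideal V ^ n ≤ J.ideal V := fun V =>
    Ideal.exists_pow_le_of_le_radical_of_fg (le_radical_of_support_le I J h V) (hI V)
  choose k hk using hk
  refine ⟨t.sup k, fun m hm => ?_⟩
  refine Scheme.IdealSheafData.le_of_iSup_eq_top (fun V : t => V.1) ?_ fun V => ?_
  · rw [eq_top_iff]
    intro x _
    obtain ⟨V, hV, hxV⟩ := Set.mem_iUnion₂.1 (ht (Set.mem_univ x))
    exact TopologicalSpace.Opens.mem_iSup.2 ⟨⟨V, hV⟩, hxV⟩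
  · rw [Scheme.IdealSheafData.ideal_pow, Pi.pow_apply]
    exact (Ideal.pow_le_pow_right ((Finset.le_sup V.2).trans hm)).trans (hk V)

theorem exists_factor {Y : Scheme.{u}} [CompactSpace Y] [QuasiSeparatedSpace Y] (J : Y.IdealSheafData)
    (hJ : ∀ V : Y.affineOpens, (J.ideal V).FG) {T : Scheme.{u}} [CompactSpace T] (f : T ⟶ Y)
    (h : ∀ t : T, f t ∈ (J.support : Set Y)) :
    ∃ (n : ℕ) (g : T ⟶ (J ^ (n + 1)).subscheme), g ≫ (J ^ (n + 1)).subschemeι = f := by
  have hsub : (f.ker.support : Set Y) ⊆ J.support := by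
    rw [f.support_ker]
    exact closure_minimal (Set.range_subset_iff.2 h) J.support.2
  obtain ⟨n, hn⟩ := exists_pow_le J f.ker hJ hsub
  exact ⟨n, IsClosedImmersion.lift (J ^ (n + 1)).subschemeι f (by
    rw [Scheme.IdealSheafData.ker_subschemeι]; exact hn _ (Nat.le_succ n)), IsClosedImmersion.lift_fac _ _ _⟩

end Groth.Agent.IdSheafPow
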